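import Groth.Agent.SGA3Bounded26.Bound

/-! Closedness and constructibility of the solvable and nilpotent loci. -/

set_option autoImplicit false
set_option backward.isDefEq.respectTransparency.types false
set_option linter.style.haveILetI false

universe u

open CategoryTheory Limits MonoidalCategory CartesianMonoidalCategory AlgebraicGeometry MonObj Topology

namespace Groth.Agent.SGA3Bounded26

variable {S : Scheme.{u}} (G : Over S)

theorem words_smooth [Smooth G.hom] : ∀ n, Smooth (dObj G n).hom ∧ Smooth (cObj G n).hom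
  | 0 => ⟨‹_›, ‹_›⟩
  | n + 1 => by
    obtain ⟨_, _⟩ := words_smooth n
    exact ⟨show Smooth (pullback.fst (dObj G n).hom (dObj G n).hom ≫ (dObj G n).hom) from inferInstance,
      show Smooth (pullback.fst (cObj G n).hom G.hom ≫ (cObj G n).hom) from inferInstance⟩

theorem words_fp [LocallyOfFinitePresentation G.hom] [QuasiCompact G.hom] :
    ∀ n, (LocallyOfFinitePresentation (dObj G n).hom ∧ QuasiCompact (dObj G n).hom) ∧
      (LocallyOfFinitePresentation (cObj G n).hom ∧ QuasiCompact (cObj G n).hom)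
  | 0 => ⟨⟨‹_›, ‹_›⟩, ‹_›, ‹_›⟩
  | n + 1 => by
    obtain ⟨⟨_, _⟩, _, _⟩ := words_fp n
    exact ⟨⟨show LocallyOfFinitePresentation (pullback.fst (dObj G n).hom (dObj G n).hom ≫ (dObj G n).hom) from
        inferInstance,
      show QuasiCompact (pullback.fst (dObj G n).hom (dObj G n).hom ≫ (dObj G n).hom) from inferInstance⟩,
      show LocallyOfFinitePresentation (pullback.fst (cObj G n).hom G.hom ≫ (cObj G n).hom) from inferInstance,
      show QuasiCompact (pullback.fst (cObj G n).hom G.hom ≫ (cObj G n).hom) from inferInstance⟩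

theorem smooth_geomFibre (s : S) (hsm : Smooth (G.hom.fiberToSpecResidueField s)) :
    Smooth (Red.geomFibre s G).hom := by
  haveI := hsm
  show Smooth (pullback.snd G.hom (Red.geomPt s))
  let φ := Spec.map (CommRingCat.ofHom (algebraMap (S.residueField s) (AlgebraicClosure (S.residueField s))))
  have h : Smooth (pullback.snd (G.hom.fiberToSpecResidueField s) φ) := MorphismProperty.pullback_snd _ _ hsm
  have e : pullback.snd G.hom (Red.geomPt s) =
      (pullbackLeftPullbackSndIso G.hom (S.fromSpecResidueField s) φ).inv ≫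
        pullback.snd (G.hom.fiberToSpecResidueField s) φ := by
    rw [Iso.eq_inv_comp]; exact pullbackLeftPullbackSndIso_hom_snd _ _ _
  rw [e]
  exact (MorphismProperty.cancel_left_of_respectsIso @Smooth _ _).2 h

variable [GrpObj G]

theorem derived_iff [LocallyOfFinitePresentation G.hom] [QuasiCompact G.hom] (n : ℕ) (s : S) :
    derivedSeries (geomObj s ⟶ G) n = ⊥ ↔ s ∈ wordLocus G (dWord G n) := by
  obtain ⟨⟨_, _⟩, _, _⟩ := words_fp G n
  rw [derivedSeries_eq_bot_iff, forall_pts_iff]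

theorem central_iff [LocallyOfFinitePresentation G.hom] [QuasiCompact G.hom] (n : ℕ) (s : S) :
    Subgroup.lowerCentralSeries (⊤ : Subgroup (geomObj s ⟶ G)) n = ⊥ ↔ s ∈ wordLocus G (cWord G n) := by
  obtain ⟨⟨_, _⟩, _, _⟩ := words_fp G n
  rw [lowerCentralSeries_eq_bot_iff, forall_pts_iff]

variable [LocallyOfFinitePresentation G.hom] [QuasiCompact G.hom] [QuasiSeparated G.hom]
  (hsm : ∀ s : S, Smooth (G.hom.fiberToSpecResidueField s))
include hsm

/-- On a neighbourhood of every point each locus is the locus of one word. -/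
theorem exists_nhd (s : S) : ∃ (V : S.Opens) (M : ℕ), s ∈ V ∧ ∀ t ∈ V,
    (Red.IsSolvableGrp (Red.geomFibre t G) ↔ t ∈ wordLocus G (dWord G M)) ∧
    (AGF.IsNilpotentGrp (Red.geomFibre t G) ↔ t ∈ wordLocus G (cWord G M)) := by
  obtain ⟨V, M, hsV, h⟩ := exists_length_bound G s
  refine ⟨V, M, hsV, fun t ht => ?_⟩
  haveI := smooth_geomFibre G t (hsm t)
  rw [(law_iff G t).1, (law_iff G t).2, ← derived_iff, ← central_iff]
  exact ⟨⟨(h t ht).1, fun h' => ⟨M, h'⟩⟩, ⟨(h t ht).2, fun h' => ⟨M, h'⟩⟩⟩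

omit [GrpObj G] [LocallyOfFinitePresentation G.hom] [QuasiCompact G.hom] [QuasiSeparated G.hom] hsm in
theorem isClosed_of_nhd {t : Set S} (h : ∀ s : S, ∃ (V : S.Opens) (F : Set S), s ∈ V ∧ IsClosed F ∧
    ∀ x ∈ V, (x ∈ t ↔ x ∈ F)) : IsClosed t := by
  rw [← isOpen_compl_iff, isOpen_iff_forall_mem_open]
  intro s hs
  obtain ⟨V, F, hsV, hF, hV⟩ := h s
  exact ⟨(V : Set S) ∩ Fᶜ, fun x hx hxt => hx.2 ((hV x hx.1).1 hxt), V.2.inter hF.isOpen_compl, hsV,
    fun hsF => hs ((hV s hsV).2 hsF)⟩

omit [GrpObj G] [LocallyOfFinitePresentation G.hom] [QuasiCompact G.hom] [QuasiSeparated G.hom] hsm in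
theorem isLocallyConstructible_of_nhd {t : Set S} (h : ∀ s : S, ∃ (V : S.Opens) (F : Set S), s ∈ V ∧
    IsLocallyConstructible F ∧ ∀ x ∈ V, (x ∈ t ↔ x ∈ F)) : IsLocallyConstructible t := by
  choose V F hsV hF hV using h
  refine .of_isOpenCover (U := V) (top_le_iff.1 fun x _ => TopologicalSpace.Opens.mem_iSup.2 ⟨x, hsV x⟩)
    fun i => ?_
  have e : Subtype.val ⁻¹' t = (Subtype.val ⁻¹' F i : Set (V i : Set S)) := Set.ext fun x => hV i x x.2
  rw [e]
  exact (hF i).preimage_of_isOpenEmbedding (V i).2.isOpenEmbedding_subtypeVal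

theorem isLocallyConstructible_loci :
    IsLocallyConstructible {s : S | Red.IsSolvableGrp (Red.geomFibre s G)} ∧
    IsLocallyConstructible {s : S | AGF.IsNilpotentGrp (Red.geomFibre s G)} := by
  constructor <;> refine isLocallyConstructible_of_nhd fun s => ?_ <;>
    obtain ⟨V, M, hsV, h⟩ := exists_nhd G hsm s <;>
    obtain ⟨⟨_, _⟩, _, _⟩ := words_fp G M
  · exact ⟨V, _, hsV, isLocallyConstructible_wordLocus G (dWord G M), fun t ht => (h t ht).1⟩
  · exact ⟨V, _, hsV, isLocallyConstructible_wordLocus G (cWord G M), fun t ht => (h t ht).2⟩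

omit [QuasiSeparated G.hom] hsm in
theorem isClosed_loci [Smooth G.hom] [IsSeparated G.hom] :
    IsClosed {s : S | Red.IsSolvableGrp (Red.geomFibre s G)} ∧
    IsClosed {s : S | AGF.IsNilpotentGrp (Red.geomFibre s G)} := by
  have hsm : ∀ s : S, Smooth (G.hom.fiberToSpecResidueField s) := fun s =>
    MorphismProperty.pullback_snd G.hom _ inferInstance
  constructor <;> refine isClosed_of_nhd fun s => ?_ <;>
    obtain ⟨V, M, hsV, h⟩ := exists_nhd G hsm s <;>
    obtain ⟨_, _⟩ := words_smooth G M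
  · exact ⟨V, _, hsV, isClosed_wordLocus G (dWord G M), fun t ht => (h t ht).1⟩
  · exact ⟨V, _, hsV, isClosed_wordLocus G (cWord G M), fun t ht => (h t ht).2⟩

end Groth.Agent.SGA3Bounded26
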