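import Groth.Agent.SGA3Bounded26.GroupTop
import Groth.Agent.AlgGrpLib.ConnComp
import Mathlib.AlgebraicGeometry.AlgClosed.Basic
import Mathlib.CategoryTheory.Monoidal.Cartesian.Grp

/-! Rational points of a group over an algebraically closed field: derived length and class are bounded. -/

set_option autoImplicit false
set_option backward.isDefEq.respectTransparency.types false
set_option linter.style.haveILetI false

universe u

open CategoryTheory Limits MonoidalCategory CartesianMonoidalCategory AlgebraicGeometry MonObj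
open scoped commutatorElement

namespace Groth.Agent.SGA3Bounded26

variable {Ω : Type u} [Field Ω] (G : Over (Spec (CommRingCat.of Ω)))

/-- The image point of a rational point. -/
noncomputable def pImg (x : 𝟙_ (Over (Spec (CommRingCat.of Ω))) ⟶ G) : G.left :=
  x.left.base (IsLocalRing.closedPoint Ω)

/-- The topology of rational points. -/
noncomputable instance ptsTop : TopologicalSpace (𝟙_ (Over (Spec (CommRingCat.of Ω))) ⟶ G) :=
  TopologicalSpace.induced (pImg G) inferInstance

theorem isInducing_pImg : Topology.IsInducing (pImg G) := ⟨rfl⟩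

theorem pImg_comp (φ : G ⟶ G) (x : 𝟙_ (Over (Spec (CommRingCat.of Ω))) ⟶ G) :
    pImg G (x ≫ φ) = φ.left.base (pImg G x) := rfl

theorem continuous_comp (φ : G ⟶ G) :
    Continuous fun x : 𝟙_ (Over (Spec (CommRingCat.of Ω))) ⟶ G => x ≫ φ :=
  (isInducing_pImg G).continuous_iff.2 (φ.left.continuous.comp (isInducing_pImg G).continuous)

/-- The constant endomorphism at a point. -/
noncomputable abbrev const (a : 𝟙_ (Over (Spec (CommRingCat.of Ω))) ⟶ G) : G ⟶ G := toUnit G ≫ a

theorem comp_const (x a : 𝟙_ (Over (Spec (CommRingCat.of Ω))) ⟶ G) : x ≫ const G a = a := by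
  rw [← Category.assoc, toUnit_unique (x ≫ toUnit G) (𝟙 _), Category.id_comp]

variable [IsAlgClosed Ω] [GrpObj G] [LocallyOfFiniteType G.hom]

omit [GrpObj G] in
theorem pImg_injective : Function.Injective (pImg G) := fun x y h =>
  Over.OverMorphism.ext (ext_of_apply_closedPoint_eq G.hom (Over.w x) (Over.w y) h)

omit [GrpObj G] in
theorem isClosed_pImg (x : 𝟙_ (Over (Spec (CommRingCat.of Ω))) ⟶ G) : IsClosed ({pImg G x} : Set G.left) :=
  ((pointEquivClosedPoint G.hom) ⟨x.left, Over.w x⟩).2

omit [GrpObj G] in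
theorem exists_pImg (z : G.left) (hz : IsClosed ({z} : Set G.left)) :
    ∃ x : 𝟙_ (Over (Spec (CommRingCat.of Ω))) ⟶ G, pImg G x = z :=
  ⟨Over.homMk (pointOfClosedPoint G.hom z hz) (pointOfClosedPoint_comp _ _ _),
    pointOfClosedPoint_apply _ _ _ _⟩

theorem algTop : AlgTop (𝟙_ (Over (Spec (CommRingCat.of Ω))) ⟶ G) := by
  refine ⟨⟨fun x => ?_⟩, ?_, fun a => ?_, fun a => ?_, fun b => ?_, fun a => ?_⟩
  · rw [← (pImg_injective G).preimage_image {x}, Set.image_singleton]
    exact (isClosed_pImg G x).preimage (isInducing_pImg G).continuous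
  · exact (continuous_comp G (𝟙 G)⁻¹).congr fun x => by rw [GrpObj.comp_inv, Category.comp_id]
  · exact (continuous_comp G (const G a * 𝟙 G)).congr fun x => by
      rw [MonObj.comp_mul, comp_const, Category.comp_id]
  · exact (continuous_comp G (𝟙 G * const G a)).congr fun x => by
      rw [MonObj.comp_mul, comp_const, Category.comp_id]
  · exact (continuous_comp G ⁅𝟙 G, const G b⁆).congr fun x => by
      simp only [commutatorElement_def, MonObj.comp_mul, GrpObj.comp_inv, comp_const, Category.comp_id]
  · exact (continuous_comp G ⁅const G a, 𝟙 G⁆).congr fun x => by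
      simp only [commutatorElement_def, MonObj.comp_mul, GrpObj.comp_inv, comp_const, Category.comp_id]

theorem pImg_one : pImg G 1 = AlgGrpLib.ConnComp.e₀ G := by
  show (1 : 𝟙_ (Over (Spec (CommRingCat.of Ω))) ⟶ G).left.base _ = _
  rw [Hom.one_def, toUnit_unique (toUnit (𝟙_ _)) (𝟙 _), Category.id_comp]

omit [IsAlgClosed Ω] [LocallyOfFiniteType G.hom] [GrpObj G] in
theorem component_comp (φ : G ⟶ G) {x y : 𝟙_ (Over (Spec (CommRingCat.of Ω))) ⟶ G}
    (h : pImg G x ∈ connectedComponent (pImg G y)) : pImg G (x ≫ φ) ∈ connectedComponent (pImg G (y ≫ φ)) :=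
  φ.left.continuous.image_connectedComponent_subset _ ⟨_, h, rfl⟩

/-- Points in the neutral component. -/
noncomputable def neutralPts : Subgroup (𝟙_ (Over (Spec (CommRingCat.of Ω))) ⟶ G) where
  carrier := {x | pImg G x ∈ connectedComponent (pImg G 1)}
  one_mem' := mem_connectedComponent
  mul_mem' := fun {x y} hx hy => by
    have h := component_comp G (const G x * 𝟙 G) (x := y) (y := 1) hy
    rw [MonObj.comp_mul, comp_const, Category.comp_id, MonObj.comp_mul, comp_const, Category.comp_id,
      _root_.mul_one, ← connectedComponent_eq hx] at h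
    exact h
  inv_mem' := fun {x} hx => by
    have h := component_comp G (𝟙 G)⁻¹ (x := x) (y := 1) hx
    rwa [GrpObj.comp_inv, Category.comp_id, GrpObj.comp_inv, Category.comp_id, inv_one] at h

instance : (neutralPts G).Normal := ⟨fun n hn g => by
  have h := component_comp G (const G g * 𝟙 G * (const G g)⁻¹) (x := n) (y := 1) hn
  rwa [MonObj.comp_mul, MonObj.comp_mul, GrpObj.comp_inv, comp_const, Category.comp_id, MonObj.comp_mul,
    MonObj.comp_mul, GrpObj.comp_inv, comp_const, Category.comp_id, _root_.mul_one, mul_inv_cancel] at h⟩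

theorem isIrreducible_neutralPts :
    IsIrreducible (neutralPts G : Set (𝟙_ (Over (Spec (CommRingCat.of Ω))) ⟶ G)) := by
  haveI : JacobsonSpace G.left := LocallyOfFiniteType.jacobsonSpace G.hom
  refine ⟨⟨1, one_mem _⟩, ?_⟩
  rintro U V hU hV ⟨a, ha, haU⟩ ⟨b, hb, hbV⟩
  obtain ⟨U', hU', rfl⟩ := (isInducing_pImg G).isOpen_iff.1 hU
  obtain ⟨V', hV', rfl⟩ := (isInducing_pImg G).isOpen_iff.1 hV
  have hc : connectedComponent (pImg G 1) = irreducibleComponent (pImg G 1) := by
    rw [pImg_one]; exact AlgGrpLib.ConnComp.connectedComponent_eq G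
  obtain ⟨z, hz, hzU, hzV⟩ := (hc.symm ▸ isIrreducible_irreducibleComponent :
    IsIrreducible (connectedComponent (pImg G 1))).2 U' V' hU' hV' ⟨_, ha, haU⟩ ⟨_, hb, hbV⟩
  obtain ⟨w, ⟨hw, hwU, hwV⟩, hwc⟩ := nonempty_inter_closedPoints
    (Z := connectedComponent (pImg G 1) ∩ (U' ∩ V')) ⟨z, hz, hzU, hzV⟩
    (isClosed_connectedComponent.isLocallyClosed.inter (hU'.inter hV').isLocallyClosed)
  obtain ⟨x, rfl⟩ := exists_pImg G w hwc
  exact ⟨x, hw, hwU, hwV⟩

theorem card_quotient_le {c : ℕ} (hc : ENat.card (_root_.ConnectedComponents G.left) ≤ c) :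
    Finite ((𝟙_ (Over (Spec (CommRingCat.of Ω))) ⟶ G) ⧸ neutralPts G) ∧
      Nat.card ((𝟙_ (Over (Spec (CommRingCat.of Ω))) ⟶ G) ⧸ neutralPts G) ≤ c := by
  let q : (𝟙_ (Over (Spec (CommRingCat.of Ω))) ⟶ G) ⧸ neutralPts G → _root_.ConnectedComponents G.left :=
    Quotient.lift (fun x => ConnectedComponents.mk (pImg G x)) (fun a b hab => by
      have hab' : a⁻¹ * b ∈ neutralPts G := QuotientGroup.leftRel_apply.1 hab
      have h := component_comp G (const G a * 𝟙 G) (x := a⁻¹ * b) (y := 1) hab'
      rw [MonObj.comp_mul, comp_const, Category.comp_id, MonObj.comp_mul, comp_const, Category.comp_id,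
        _root_.mul_one, mul_inv_cancel_left] at h
      exact ConnectedComponents.coe_eq_coe.2 (connectedComponent_eq h))
  have hq : Function.Injective q := fun a b hab => by
    induction a using QuotientGroup.induction_on with | _ a =>
    induction b using QuotientGroup.induction_on with | _ b =>
    refine QuotientGroup.eq.2 ?_
    have hba : pImg G b ∈ connectedComponent (pImg G a) :=
      (ConnectedComponents.coe_eq_coe.1 hab).symm ▸ mem_connectedComponent
    have h := component_comp G (const G a⁻¹ * 𝟙 G) hba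
    rwa [MonObj.comp_mul, comp_const, Category.comp_id, MonObj.comp_mul, comp_const, Category.comp_id,
      inv_mul_cancel] at h
  haveI : Finite (_root_.ConnectedComponents G.left) :=
    ENat.card_lt_top.1 (lt_of_le_of_lt hc (ENat.natCast_lt_top c))
  refine ⟨Finite.of_injective q hq, (Nat.card_le_card_of_injective q hq).trans ?_⟩
  rw [ENat.card_eq_coe_natCard] at hc
  exact_mod_cast hc

variable {c d : ℕ} (hc : ENat.card (_root_.ConnectedComponents G.left) ≤ c)
  (hd : topologicalKrullDim G.left ≤ d)
include hc hd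

/-- Derived length is at most components plus dimension plus one. -/
theorem derivedSeries_pts_bound {N : ℕ} (hN : derivedSeries (𝟙_ (Over (Spec (CommRingCat.of Ω))) ⟶ G) N = ⊥) :
    derivedSeries (𝟙_ (Over (Spec (CommRingCat.of Ω))) ⟶ G) (c + (d + 1)) = ⊥ := by
  obtain ⟨hfin, hcard⟩ := card_quotient_le G hc
  exact derivedSeries_bound (algTop G) (neutralPts G) (isIrreducible_neutralPts G) hcard
    ((isInducing_pImg G).topologicalKrullDim_le.trans hd) hN

/-- Nilpotency class is at most components plus dimension plus one. -/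
theorem lowerCentralSeries_pts_bound {N : ℕ}
    (hN : Subgroup.lowerCentralSeries (⊤ : Subgroup (𝟙_ (Over (Spec (CommRingCat.of Ω))) ⟶ G)) N = ⊥) :
    Subgroup.lowerCentralSeries (⊤ : Subgroup (𝟙_ (Over (Spec (CommRingCat.of Ω))) ⟶ G)) (c + (d + 1)) = ⊥ := by
  obtain ⟨hfin, hcard⟩ := card_quotient_le G hc
  exact lowerCentralSeries_bound (algTop G) (neutralPts G) (isIrreducible_neutralPts G) hcard
    ((isInducing_pImg G).topologicalKrullDim_le.trans hd) hN

end Groth.Agent.SGA3Bounded26
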