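import Groth.Agent.SGA3Bounded26.Locus
import Groth.Agent.SGA3cLib.NeutralDimCons
import Groth.Agent.FlatMorGeomIrr.Model
import Groth.Agent.FlatMorGeomIrr.GeomFibre
import Groth.Agent.DimLib.BaseChange
import Groth.Agent.H8ProCons.ConsTopology
import Groth.Prelude.Def_MoreMor

/-! Derived length and class of geometric fibres are bounded on affine opens of the base. -/

set_option autoImplicit false
set_option backward.isDefEq.respectTransparency.types false
set_option linter.style.haveILetI false

universe u

open CategoryTheory Limits MonoidalCategory CartesianMonoidalCategory AlgebraicGeometry MonObj Topology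

namespace Groth.Agent.SGA3Bounded26

/-- A noetherian space has finitely many connected components. -/
theorem finite_connectedComponents (X : Type u) [TopologicalSpace X] [TopologicalSpace.NoetherianSpace X] :
    Finite (_root_.ConnectedComponents X) := by
  haveI : Finite ↥(irreducibleComponents X) := TopologicalSpace.NoetherianSpace.finite_irreducibleComponents.to_subtype
  refine Finite.of_surjective
    (fun Z : ↥(irreducibleComponents X) => ConnectedComponents.mk Z.2.1.nonempty.some) fun q => ?_
  obtain ⟨x, rfl⟩ := ConnectedComponents.surjective_coe q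
  refine ⟨⟨_, irreducibleComponent_mem_irreducibleComponents x⟩, ConnectedComponents.coe_eq_coe.2 ?_⟩
  exact connectedComponent_eq (isIrreducible_irreducibleComponent.isConnected.isPreconnected.subset_connectedComponent
    (Set.Nonempty.some_mem _) mem_irreducibleComponent)

variable {S : Scheme.{u}} (G : Over S) [GrpObj G]

omit [GrpObj G] in
theorem card_components_eq (s : S) :
    ENat.card (_root_.ConnectedComponents (Red.geomFibre s G).left) = MoreMor.nGeomConnComp G.hom s :=
  (FlatMorGeomIrr.counts_eq_geomFiber G.hom (Red.geomPt s)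
    (IsLocalRing.closedPoint (AlgebraicClosure (S.residueField s))) (geomPt_apply s _)).2

omit [GrpObj G] in
theorem card_components_lt_top [LocallyOfFiniteType G.hom] [QuasiCompact G.hom] (s : S) :
    MoreMor.nGeomConnComp G.hom s < ⊤ := by
  haveI : LocallyOfFiniteType (Red.geomFibre s G).hom := MorphismProperty.pullback_snd G.hom _ inferInstance
  haveI : QuasiCompact (Red.geomFibre s G).hom := MorphismProperty.pullback_snd G.hom _ inferInstance
  haveI : IsLocallyNoetherian (Red.geomFibre s G).left :=
    LocallyOfFiniteType.isLocallyNoetherian (Red.geomFibre s G).hom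
  haveI : CompactSpace (Red.geomFibre s G).left :=
    QuasiCompact.compactSpace_of_compactSpace (Red.geomFibre s G).hom
  haveI : AlgebraicGeometry.IsNoetherian (Red.geomFibre s G).left := {}
  haveI := finite_connectedComponents ↥(Red.geomFibre s G).left
  rw [← card_components_eq]
  exact ENat.card_lt_top.2 inferInstance

omit [GrpObj G] in
theorem dim_geomFibre_eq [LocallyOfFiniteType G.hom] (s : S) :
    topologicalKrullDim ↥(Red.geomFibre s G).left = topologicalKrullDim ↥(G.hom.base ⁻¹' {s}) := by
  rw [← (G.hom.fiberHomeo s).isHomeomorph.topologicalKrullDim_eq]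
  haveI : LocallyOfFiniteType (G.hom.fiberToSpecResidueField s) :=
    MorphismProperty.pullback_snd G.hom _ inferInstance
  rw [← @DimLib.topologicalKrullDim_bc (S.residueField s) _ _ (G.hom.fiberToSpecResidueField s) this (AlgebraicClosure (S.residueField s)) inferInstance inferInstance]
  exact ((pullbackLeftPullbackSndIso G.hom (S.fromSpecResidueField s) _).hom.homeomorph.isHomeomorph.topologicalKrullDim_eq).symm

/-- On an affine open the number of geometric components of the fibres is bounded. -/
theorem exists_components_bound [LocallyOfFinitePresentation G.hom] [QuasiCompact G.hom] [QuasiSeparated G.hom]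
    (V : S.Opens) (hV : IsAffineOpen V) : ∃ c : ℕ, ∀ t ∈ V, MoreMor.nGeomConnComp G.hom t ≤ c := by
  haveI : IsAffine V.toScheme := hV
  have hcons : ∀ n : ℕ, IsOpen[constructibleTopology V.toScheme]
      (V.ι.base ⁻¹' {t : S | MoreMor.nGeomConnComp G.hom t = n}) := fun n =>
    H8ProCons.isOpen_cons_of_isLocallyConstructible
      (H8Lim.isLocallyConstructible_preimage V.ι (FlatMorGeomIrr.isLocallyConstructible_counts G.hom n).2)
  have hcs : @CompactSpace V.toScheme (constructibleTopology V.toScheme) :=
    @Function.Surjective.compactSpace (WithConstructibleTopology V.toScheme) _ _ (constructibleTopology V.toScheme)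
      _ (WithTopology.continuous_ofTopology _) inferInstance (WithTopology.ofTopology_surjective _)
  obtain ⟨T, hT⟩ := @IsCompact.elim_finite_subcover V.toScheme (constructibleTopology V.toScheme) Set.univ ℕ
    (@isCompact_univ _ (constructibleTopology V.toScheme) hcs) _ hcons (fun t _ => by
      obtain ⟨n, hn⟩ := WithTop.ne_top_iff_exists.1 (card_components_lt_top G (V.ι.base t)).ne
      exact Set.mem_iUnion.2 ⟨n, hn.symm⟩)
  refine ⟨T.sup id, fun t ht => ?_⟩
  obtain ⟨n, hn, h⟩ := Set.mem_iUnion₂.1 (hT (Set.mem_univ (⟨t, ht⟩ : V)))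
  exact (show MoreMor.nGeomConnComp G.hom t = n from h).le.trans (by exact_mod_cast Finset.le_sup (f := id) hn)

/-- Smooth geometric fibre: solvability and nilpotency are read on geometric points. -/
theorem law_iff (s : S) [Smooth (Red.geomFibre s G).hom] :
    (Red.IsSolvableGrp (Red.geomFibre s G) ↔ ∃ n, derivedSeries (geomObj s ⟶ G) n = ⊥) ∧
    (AGF.IsNilpotentGrp (Red.geomFibre s G) ↔
      ∃ n, Subgroup.lowerCentralSeries (⊤ : Subgroup (geomObj s ⟶ G)) n = ⊥) := by
  let Ω := AlgebraicClosure (S.residueField s)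
  let e : AlgGrpLib.PointsDense.spK Ω Ω ≅ 𝟙_ (Over (Spec (CommRingCat.of Ω))) :=
    Over.isoMk (Iso.refl _) (by
      show 𝟙 _ ≫ 𝟙 _ = Spec.map (CommRingCat.ofHom (algebraMap Ω Ω))
      rw [Category.id_comp, Algebra.algebraMap_self, CommRingCat.ofHom_id, Spec.map_id])
  let φ : (AlgGrpLib.PointsDense.spK Ω Ω ⟶ Red.geomFibre s G) ≃* (geomObj s ⟶ G) :=
    (MulEquiv.mk' (Iso.homCongr e (Iso.refl _)) (fun a b => by
      show e.inv ≫ (a * b) ≫ 𝟙 _ = (e.inv ≫ a ≫ 𝟙 _) * (e.inv ≫ b ≫ 𝟙 _)
      simp only [Category.comp_id, MonObj.comp_mul])).trans (geomPtsEquiv G s).symm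
  have h1 : ∀ n, derivedSeries (AlgGrpLib.PointsDense.spK Ω Ω ⟶ Red.geomFibre s G) n = ⊥ ↔
      derivedSeries (geomObj s ⟶ G) n = ⊥ := fun n => by
    rw [← map_derivedSeries_eq (f := φ.toMonoidHom) φ.surjective n,
      Subgroup.map_eq_bot_iff_of_injective _ φ.injective]
  have h2 : ∀ n, Subgroup.lowerCentralSeries (⊤ : Subgroup (AlgGrpLib.PointsDense.spK Ω Ω ⟶ Red.geomFibre s G)) n = ⊥ ↔
      Subgroup.lowerCentralSeries (⊤ : Subgroup (geomObj s ⟶ G)) n = ⊥ := fun n => by
    rw [← Subgroup.map_top_of_surjective φ.toMonoidHom φ.surjective, ← Subgroup.map_lowerCentralSeries,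
      Subgroup.map_eq_bot_iff_of_injective _ φ.injective]
  refine ⟨exists_congr fun n => ?_, exists_congr fun n => ?_⟩
  · exact ((SGA3DerLib.series_iff (Red.geomFibre s G) n Ω).1).trans (h1 n)
  · refine Iff.trans (forall_congr' fun X => ?_) (((SGA3DerLib.series_iff (Red.geomFibre s G) n Ω).2).trans (h2 n))
    exact Subgroup.lowerCentralSeries_eq_bot_iff_upperCentralSeries_eq_top.symm

/-- Over an affine open one length works for all points. -/
theorem exists_length_bound [LocallyOfFinitePresentation G.hom] [QuasiCompact G.hom] [QuasiSeparated G.hom] (s : S) :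
    ∃ (V : S.Opens) (M : ℕ), s ∈ V ∧ ∀ t ∈ V,
      ((∃ n, derivedSeries (geomObj t ⟶ G) n = ⊥) → derivedSeries (geomObj t ⟶ G) M = ⊥) ∧
      ((∃ n, Subgroup.lowerCentralSeries (⊤ : Subgroup (geomObj t ⟶ G)) n = ⊥) →
        Subgroup.lowerCentralSeries (⊤ : Subgroup (geomObj t ⟶ G)) M = ⊥) := by
  obtain ⟨V, hsV, hV, ⟨d, hd⟩, -⟩ := SGA3cLib.NeutralDim.exists_nhd_constructible G s
  obtain ⟨c, hc⟩ := exists_components_bound G V hV
  refine ⟨V, c + (d + 1), hsV, fun t ht => ?_⟩
  haveI : LocallyOfFiniteType (Red.geomFibre t G).hom := MorphismProperty.pullback_snd G.hom _ inferInstance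
  have hc' : ENat.card (_root_.ConnectedComponents (Red.geomFibre t G).left) ≤ c :=
    (card_components_eq G t).le.trans (hc t ht)
  have hd' : topologicalKrullDim (Red.geomFibre t G).left ≤ d := (dim_geomFibre_eq G t).le.trans (hd t ht)
  let φ := geomPtsEquiv G t
  have h1 : ∀ n, derivedSeries (geomObj t ⟶ G) n = ⊥ ↔
      derivedSeries (𝟙_ (Over (Spec (CommRingCat.of (AlgebraicClosure (S.residueField t))))) ⟶ Red.geomFibre t G) n = ⊥ :=
    fun n => by rw [← map_derivedSeries_eq (f := φ.toMonoidHom) φ.surjective n,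
      Subgroup.map_eq_bot_iff_of_injective _ φ.injective]
  have h2 : ∀ n, Subgroup.lowerCentralSeries (⊤ : Subgroup (geomObj t ⟶ G)) n = ⊥ ↔
      Subgroup.lowerCentralSeries (⊤ : Subgroup (𝟙_ (Over (Spec (CommRingCat.of (AlgebraicClosure (S.residueField t))))) ⟶
        Red.geomFibre t G)) n = ⊥ := fun n => by
    rw [← Subgroup.map_top_of_surjective φ.toMonoidHom φ.surjective, ← Subgroup.map_lowerCentralSeries,
      Subgroup.map_eq_bot_iff_of_injective _ φ.injective]
  exact ⟨fun ⟨n, hn⟩ => (h1 _).2 (derivedSeries_pts_bound _ hc' hd' ((h1 n).1 hn)),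
    fun ⟨n, hn⟩ => (h2 _).2 (lowerCentralSeries_pts_bound _ hc' hd' ((h2 n).1 hn))⟩

end Groth.Agent.SGA3Bounded26
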