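import Mathlib.GroupTheory.Solvable
import Mathlib.GroupTheory.Nilpotent
import Mathlib.Topology.KrullDimension
import Mathlib.GroupTheory.Index
import Mathlib.SetTheory.Cardinal.Finite

/-! Derived length and nilpotency class are bounded by dimension and number of components. -/

set_option autoImplicit false
set_option linter.style.haveILetI false

open scoped commutatorElement Pointwise

namespace Groth.Agent.SGA3Bounded26

section Finite

variable {Q : Type*} [Group Q]

/-- A series in a group of order at most `c` which stays where it stops and reaches `⊥` is `⊥` at `c`. -/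
theorem series_eq_bot [Finite Q] (f : ℕ → Subgroup Q) (h1 : ∀ n, f (n + 1) ≤ f n)
    (h2 : ∀ n, f n = f (n + 1) → f (n + 1) = f (n + 2)) {c : ℕ} (hc : Nat.card Q ≤ c) {N : ℕ} (hN : f N = ⊥) :
    f c = ⊥ := by
  classical
  have hanti : Antitone f := antitone_nat_of_succ_le h1
  have hstab : ∀ n, f n = f (n + 1) → f n = ⊥ := by
    intro n hn
    have : ∀ j, f (n + j) = f (n + j + 1) := by
      intro j
      induction j with
      | zero => exact hn
      | succ j ih => exact h2 _ ih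
    have h : ∀ j, f (n + j) = f n := by
      intro j
      induction j with
      | zero => rfl
      | succ j ih => exact (this j).symm.trans ih
    exact le_bot_iff.1 ((h N).symm.le.trans (hN ▸ hanti (Nat.le_add_left N n)))
  have key : ∀ n, f n = ⊥ ∨ Nat.card (f n) + n ≤ c := by
    intro n
    induction n with
    | zero => exact Or.inr ((Nat.card_le_card_of_injective _ Subtype.val_injective).trans hc)
    | succ n ih =>
      rcases ih with h | h
      · exact Or.inl (le_bot_iff.1 (h ▸ h1 n))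
      · rcases (h1 n).eq_or_lt with e | e
        · exact Or.inl (e.trans (hstab n e.symm))
        · refine Or.inr ?_
          have : Nat.card (f (n + 1)) < Nat.card (f n) := Set.Finite.card_lt_card (Set.toFinite _) e
          omega
  rcases key c with h | h
  · exact h
  · exact absurd h (by have := Nat.card_pos (α := f c); omega)

theorem derivedSeries_eq_bot_card [Finite Q] {c : ℕ} (hc : Nat.card Q ≤ c) {N : ℕ} (hN : derivedSeries Q N = ⊥) :
    derivedSeries Q c = ⊥ :=
  series_eq_bot (derivedSeries Q) (fun n => derivedSeries_antitone Q n.le_succ)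
    (fun n h => by rw [derivedSeries_succ Q (n + 1), ← h, ← derivedSeries_succ, h]) hc hN

theorem lowerCentralSeries_eq_bot_card [Finite Q] {c : ℕ} (hc : Nat.card Q ≤ c) {N : ℕ}
    (hN : Subgroup.lowerCentralSeries (⊤ : Subgroup Q) N = ⊥) :
    Subgroup.lowerCentralSeries (⊤ : Subgroup Q) c = ⊥ :=
  series_eq_bot _ (fun n => Subgroup.lowerCentralSeries_antitone _ n.le_succ)
    (fun n h => by
      rw [Subgroup.lowerCentralSeries_succ _ (n + 1), ← h, ← Subgroup.lowerCentralSeries_succ, h]) hc hN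

end Finite

section Series

variable {Γ : Type*} [Group Γ] (H : Subgroup Γ)

/-- The derived series started at `H`. -/
def derivedFrom : ℕ → Subgroup Γ
  | 0 => H
  | n + 1 => ⁅derivedFrom n, derivedFrom n⁆

/-- The central series started at `H`. -/
def centralFrom : ℕ → Subgroup Γ
  | 0 => H
  | n + 1 => ⁅centralFrom n, ⊤⁆

end Series

section Top

variable {Γ : Type*} [Group Γ] [TopologicalSpace Γ]

/-- The continuity properties of an algebraic group on its rational points. -/
structure AlgTop (Γ : Type*) [Group Γ] [TopologicalSpace Γ] : Prop where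
  t1 : T1Space Γ
  inv : Continuous fun x : Γ => x⁻¹
  mulLeft : ∀ a : Γ, Continuous fun x : Γ => a * x
  mulRight : ∀ a : Γ, Continuous fun x : Γ => x * a
  commLeft : ∀ b : Γ, Continuous fun x : Γ => ⁅x, b⁆
  commRight : ∀ a : Γ, Continuous fun x : Γ => ⁅a, x⁆

variable (hΓ : AlgTop Γ)
include hΓ

theorem isPreirreducible_mul {A B : Set Γ} (hA : IsPreirreducible A) (hB : IsPreirreducible B) :
    IsPreirreducible (A * B) := by
  rintro U V hU hV ⟨_, ⟨a₁, ha₁, b₁, hb₁, rfl⟩, hu⟩ ⟨_, ⟨a₂, ha₂, b₂, hb₂, rfl⟩, hv⟩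
  obtain ⟨a, ha, hau, hav⟩ := hA _ _ (hU.preimage (hΓ.mulRight b₁)) (hV.preimage (hΓ.mulRight b₂))
    ⟨a₁, ha₁, hu⟩ ⟨a₂, ha₂, hv⟩
  obtain ⟨b, hb, hbu, hbv⟩ := hB _ _ (hU.preimage (hΓ.mulLeft a)) (hV.preimage (hΓ.mulLeft a))
    ⟨b₁, hb₁, hau⟩ ⟨b₂, hb₂, hav⟩
  exact ⟨a * b, ⟨a, ha, b, hb, rfl⟩, hbu, hbv⟩

/-- The subgroup generated by irreducible sets containing one is irreducible. -/
theorem isIrreducible_closure {ι : Type*} (g : ι → Set Γ) (h1 : ∀ i, (1 : Γ) ∈ g i)
    (hi : ∀ i, IsPreirreducible (g i)) : IsIrreducible (Subgroup.closure (⋃ i, g i) : Set Γ) := by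
  let K := Subgroup.closure (⋃ i, g i)
  let 𝒜 : Set (Set Γ) := {A | A ⊆ K ∧ (1 : Γ) ∈ A ∧ IsPreirreducible A}
  have hmul : ∀ A ∈ 𝒜, ∀ B ∈ 𝒜, A * B ∈ 𝒜 := fun A hA B hB =>
    ⟨fun _ ⟨a, ha, b, hb, e⟩ => e ▸ mul_mem (hA.1 ha) (hB.1 hb), ⟨1, hA.2.1, 1, hB.2.1, _root_.one_mul 1⟩,
      isPreirreducible_mul hΓ hA.2.2 hB.2.2⟩
  have hinv : ∀ A ∈ 𝒜, (fun x : Γ => x⁻¹) '' A ∈ 𝒜 := fun A hA =>
    ⟨fun _ ⟨a, ha, e⟩ => e ▸ inv_mem (hA.1 ha), ⟨1, hA.2.1, inv_one⟩, hA.2.2.image _ hΓ.inv.continuousOn⟩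
  have hgen : ∀ x ∈ K, ∃ A ∈ 𝒜, x ∈ A := fun x hx => by
    induction hx using Subgroup.closure_induction with
    | mem x hx =>
      obtain ⟨i, hi'⟩ := Set.mem_iUnion.1 hx
      exact ⟨g i, ⟨fun y hy => Subgroup.subset_closure (Set.mem_iUnion.2 ⟨i, hy⟩), h1 i, hi i⟩, hi'⟩
    | one => exact ⟨{1}, ⟨by simp, rfl, isPreirreducible_singleton⟩, rfl⟩
    | mul x y _ _ hx hy =>
      obtain ⟨A, hA, hxA⟩ := hx
      obtain ⟨B, hB, hyB⟩ := hy
      exact ⟨A * B, hmul A hA B hB, x, hxA, y, hyB, rfl⟩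
    | inv x _ hx =>
      obtain ⟨A, hA, hxA⟩ := hx
      exact ⟨_, hinv A hA, x, hxA, rfl⟩
  refine ⟨⟨1, one_mem K⟩, ?_⟩
  rintro U V hU hV ⟨x, hx, hxU⟩ ⟨y, hy, hyV⟩
  obtain ⟨A, hA, hxA⟩ := hgen x hx
  obtain ⟨B, hB, hyB⟩ := hgen y hy
  obtain ⟨z, hz, hzUV⟩ := (hmul A hA B hB).2.2 U V hU hV
    ⟨x, ⟨x, hxA, 1, hB.2.1, _root_.mul_one x⟩, hxU⟩ ⟨y, ⟨1, hA.2.1, y, hyB, _root_.one_mul y⟩, hyV⟩
  exact ⟨z, (hmul A hA B hB).1 hz, hzUV⟩

theorem isIrreducible_commutator {K L : Subgroup Γ} (hK : IsIrreducible (K : Set Γ)) :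
    IsIrreducible ((⁅K, L⁆ : Subgroup Γ) : Set Γ) := by
  have e : {g | ∃ g₁ ∈ K, ∃ g₂ ∈ L, ⁅g₁, g₂⁆ = g} = ⋃ b : L, (fun x : Γ => ⁅x, (b : Γ)⁆) '' (K : Set Γ) := by
    ext g
    simp only [Set.mem_ofPred_eq, Set.mem_iUnion, Set.mem_image, SetLike.mem_coe, Subtype.exists, exists_prop]
    exact ⟨fun ⟨a, ha, b, hb, h⟩ => ⟨b, hb, a, ha, h⟩, fun ⟨b, hb, a, ha, h⟩ => ⟨a, ha, b, hb, h⟩⟩
  rw [Subgroup.commutator_def, e]
  exact isIrreducible_closure hΓ _ (fun b => ⟨1, one_mem K, commutatorElement_one_left _⟩)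
    fun b => hK.isPreirreducible.image _ (hΓ.commLeft b).continuousOn

/-- The closure of a subgroup, as a subgroup. -/
theorem exists_closure_subgroup (K : Subgroup Γ) : ∃ L : Subgroup Γ, (L : Set Γ) = closure (K : Set Γ) := by
  have hl : ∀ a ∈ K, ∀ y ∈ closure (K : Set Γ), a * y ∈ closure (K : Set Γ) := fun a ha y hy =>
    map_mem_closure (hΓ.mulLeft a) hy fun x hx => mul_mem ha hx
  refine ⟨{ carrier := closure (K : Set Γ), one_mem' := subset_closure (one_mem K),
            mul_mem' := fun {x y} hx hy => ?_, inv_mem' := fun {x} hx => ?_ }, rfl⟩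
  · exact closure_closure.subset (map_mem_closure (f := fun a => a * y) (hΓ.mulRight y) hx fun a ha => hl a ha y hy)
  · exact map_mem_closure hΓ.inv hx fun a ha => inv_mem ha

/-- A series whose closures are irreducible, decreasing, and stay where they stop, is `⊥` after `dim + 1` steps. -/
theorem series_eq_bot_dim (K : ℕ → Subgroup Γ) (hirr : ∀ n, IsIrreducible (K n : Set Γ))
    (h1 : ∀ n, K (n + 1) ≤ K n)
    (h2 : ∀ n, (K n : Set Γ) ⊆ closure (K (n + 1) : Set Γ) → (K (n + 1) : Set Γ) ⊆ closure (K (n + 2) : Set Γ))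
    {d : ℕ} (hd : topologicalKrullDim Γ ≤ d) {N : ℕ} (hN : K N = ⊥) : K (d + 1) = ⊥ := by
  haveI := hΓ.t1
  have hanti : Antitone K := antitone_nat_of_succ_le h1
  by_contra hne
  have hlt : ∀ n ≤ d, closure (K (n + 1) : Set Γ) ⊂ closure (K n : Set Γ) := by
    refine fun n hn => Set.ssubset_iff_subset_ne.2 ⟨closure_mono (h1 n), fun e => hne ?_⟩
    have hstep : ∀ j, (K (n + j) : Set Γ) ⊆ closure (K (n + j + 1) : Set Γ) := by
      intro j
      induction j with
      | zero => exact subset_closure.trans e.symm.subset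
      | succ j ih => exact h2 _ ih
    have hcl : ∀ j, (K n : Set Γ) ⊆ closure (K (n + j) : Set Γ) := by
      intro j
      induction j with
      | zero => exact subset_closure
      | succ j ih => exact ih.trans (closure_minimal (hstep j) isClosed_closure)
    refine (Subgroup.eq_bot_iff_forall _).2 fun x hx => ?_
    have h := closure_mono (SetLike.coe_subset_coe.2 (hN ▸ hanti (Nat.le_add_left N n)))
      (hcl N (hanti (by omega : n ≤ d + 1) hx))
    rwa [Subgroup.coe_bot, closure_singleton] at h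
  let s : LTSeries (TopologicalSpace.IrreducibleCloseds Γ) :=
    LTSeries.mk (d + 1) (fun j => ⟨closure (K (d + 1 - j) : Set Γ), (hirr _).closure, isClosed_closure⟩) <|
      Fin.strictMono_iff_lt_succ.2 fun i => by
        show closure _ ⊂ closure _
        rw [Fin.val_castSucc, Fin.val_succ, show d + 1 - (i : ℕ) = (d + 1 - (i + 1)) + 1 by omega]
        exact hlt _ (by omega)
  have h : ((d + 1 : ℕ) : WithBot ℕ∞) ≤ (d : ℕ) := (Order.LTSeries.length_le_krullDim s).trans hd
  norm_cast at h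
  omega

variable (H : Subgroup Γ) (hH : IsIrreducible (H : Set Γ)) [H.Normal] [Finite (Γ ⧸ H)] {c d : ℕ}
  (hc : Nat.card (Γ ⧸ H) ≤ c) (hd : topologicalKrullDim Γ ≤ d)
include hH hc hd

theorem derivedSeries_bound {N : ℕ} (hN : derivedSeries Γ N = ⊥) : derivedSeries Γ (c + (d + 1)) = ⊥ := by
  let K : ℕ → Subgroup Γ := derivedFrom H
  have hKs : ∀ n, K (n + 1) = ⁅K n, K n⁆ := fun n => rfl
  have hnorm : ∀ n, (K n).Normal := fun n => by
    induction n with
    | zero => assumption
    | succ n ih => haveI := ih; rw [hKs]; infer_instance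
  have h1 : ∀ n, K (n + 1) ≤ K n := fun n => by
    haveI := hnorm n
    rw [hKs]; exact Subgroup.commutator_le_left _ _
  have hirr : ∀ n, IsIrreducible (↑(K n) : Set Γ) := fun n => by
    induction n with
    | zero => exact hH
    | succ n ih => rw [hKs]; exact isIrreducible_commutator hΓ ih
  have hle : ∀ n, K n ≤ derivedSeries Γ n := fun n => by
    induction n with
    | zero => exact le_top
    | succ n ih => rw [hKs, derivedSeries_succ]; exact Subgroup.commutator_mono ih ih
  have h0 : derivedSeries Γ c ≤ K 0 := by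
    have hb := derivedSeries_eq_bot_card (Q := Γ ⧸ H) hc (N := N) (by
      rw [← map_derivedSeries_eq (f := QuotientGroup.mk' H) (QuotientGroup.mk'_surjective H) N, hN, Subgroup.map_bot])
    rw [← map_derivedSeries_eq (f := QuotientGroup.mk' H) (QuotientGroup.mk'_surjective H) c,
      Subgroup.map_eq_bot_iff, QuotientGroup.ker_mk'] at hb
    exact hb
  have hge : ∀ j, derivedSeries Γ (c + j) ≤ K j := fun j => by
    induction j with
    | zero => exact h0
    | succ j ih => rw [hKs, ← add_assoc, derivedSeries_succ]; exact Subgroup.commutator_mono ih ih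
  refine le_bot_iff.1 ((hge (d + 1)).trans (series_eq_bot_dim hΓ K hirr h1 (fun n h => ?_) hd
    (le_bot_iff.1 ((hle N).trans hN.le))).le)
  obtain ⟨L, hL⟩ := exists_closure_subgroup hΓ (K (n + 2))
  rw [← hL, SetLike.coe_subset_coe, hKs, Subgroup.commutator_le]
  intro a ha b hb
  have hab : ∀ a ∈ K n, ∀ b ∈ K (n + 1), ⁅a, b⁆ ∈ (L : Set Γ) := fun a ha b hb => by
    rw [hL]
    refine closure_closure.subset (map_mem_closure (f := fun x => ⁅x, b⁆) (hΓ.commLeft b) (h ha) fun x hx => ?_)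
    exact subset_closure (by rw [hKs (n + 1)]; exact Subgroup.commutator_mem_commutator hx hb)
  have := map_mem_closure (f := fun x => ⁅a, x⁆) (hΓ.commRight a) (h hb) (hab a ha)
  rw [hL, closure_closure, ← hL] at this
  exact this

theorem lowerCentralSeries_bound {N : ℕ} (hN : Subgroup.lowerCentralSeries (⊤ : Subgroup Γ) N = ⊥) :
    Subgroup.lowerCentralSeries (⊤ : Subgroup Γ) (c + (d + 1)) = ⊥ := by
  let K : ℕ → Subgroup Γ := centralFrom H
  have hKs : ∀ n, K (n + 1) = ⁅K n, ⊤⁆ := fun n => rfl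
  have hnorm : ∀ n, (K n).Normal := fun n => by
    induction n with
    | zero => assumption
    | succ n ih => haveI := ih; rw [hKs]; infer_instance
  have h1 : ∀ n, K (n + 1) ≤ K n := fun n => by
    haveI := hnorm n
    rw [hKs]; exact Subgroup.commutator_le_left _ _
  have hirr : ∀ n, IsIrreducible (↑(K n) : Set Γ) := fun n => by
    induction n with
    | zero => exact hH
    | succ n ih => rw [hKs]; exact isIrreducible_commutator hΓ ih
  have hle : ∀ n, K n ≤ Subgroup.lowerCentralSeries (⊤ : Subgroup Γ) n := fun n => by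
    induction n with
    | zero => exact le_top.trans_eq (Subgroup.lowerCentralSeries_zero _).symm
    | succ n ih => rw [hKs, Subgroup.lowerCentralSeries_succ]; exact Subgroup.commutator_mono ih le_rfl
  have hmap : ∀ n, (Subgroup.lowerCentralSeries (⊤ : Subgroup Γ) n).map (QuotientGroup.mk' H) =
      Subgroup.lowerCentralSeries (⊤ : Subgroup (Γ ⧸ H)) n := fun n => by
    rw [Subgroup.map_lowerCentralSeries, Subgroup.map_top_of_surjective _ (QuotientGroup.mk'_surjective H)]
  have h0 : Subgroup.lowerCentralSeries (⊤ : Subgroup Γ) c ≤ K 0 := by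
    have hb := lowerCentralSeries_eq_bot_card (Q := Γ ⧸ H) hc (N := N) (by rw [← hmap, hN, Subgroup.map_bot])
    rw [← hmap, Subgroup.map_eq_bot_iff, QuotientGroup.ker_mk'] at hb
    exact hb
  have hge : ∀ j, Subgroup.lowerCentralSeries (⊤ : Subgroup Γ) (c + j) ≤ K j := fun j => by
    induction j with
    | zero => exact h0
    | succ j ih => rw [hKs, ← add_assoc, Subgroup.lowerCentralSeries_succ]; exact Subgroup.commutator_mono ih le_rfl
  refine le_bot_iff.1 ((hge (d + 1)).trans (series_eq_bot_dim hΓ K hirr h1 (fun n h => ?_) hd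
    (le_bot_iff.1 ((hle N).trans hN.le))).le)
  obtain ⟨L, hL⟩ := exists_closure_subgroup hΓ (K (n + 2))
  rw [← hL, SetLike.coe_subset_coe, hKs, Subgroup.commutator_le]
  intro a ha b hb
  rw [← SetLike.mem_coe, hL]
  exact map_mem_closure (f := fun x => ⁅x, b⁆) (hΓ.commLeft b) (h ha)
    fun x hx => by rw [hKs (n + 1)]; exact Subgroup.commutator_mem_commutator hx hb

end Top

end Groth.Agent.SGA3Bounded26
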