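import Groth.Agent.SGA3DerLib.GroupLaws
import Mathlib.CategoryTheory.Monoidal.Cartesian.Grp

/-! Iterated commutator words of a group object in any cartesian monoidal category. -/

set_option autoImplicit false
set_option backward.isDefEq.respectTransparency.types false
set_option linter.style.haveILetI false

universe v u

open CategoryTheory MonoidalCategory CartesianMonoidalCategory MonObj
open scoped commutatorElement

namespace Groth.Agent.SGA3Bounded26

variable {C : Type u} [Category.{v} C] [CartesianMonoidalCategory C] (G : C)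

/-- The source of the `n`-th derived word. -/
def dObj : ℕ → C
  | 0 => G
  | n + 1 => dObj n ⊗ dObj n

/-- The source of the `n`-th central word. -/
def cObj : ℕ → C
  | 0 => G
  | n + 1 => cObj n ⊗ G

variable [GrpObj G]

/-- The derived words. -/
noncomputable def dWord : (n : ℕ) → (dObj G n ⟶ G)
  | 0 => 𝟙 G
  | n + 1 => (⁅fst (dObj G n) (dObj G n) ≫ dWord n, snd (dObj G n) (dObj G n) ≫ dWord n⁆ :
      dObj G n ⊗ dObj G n ⟶ G)

/-- The central words. -/
noncomputable def cWord : (n : ℕ) → (cObj G n ⟶ G)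
  | 0 => 𝟙 G
  | n + 1 => (⁅fst (cObj G n) G ≫ cWord n, snd (cObj G n) G⁆ : cObj G n ⊗ G ⟶ G)

variable {G}

theorem comp_commutator {T T' : C} (g : T' ⟶ T) (a b : T ⟶ G) : g ≫ ⁅a, b⁆ = ⁅g ≫ a, g ≫ b⁆ := by
  simp only [commutatorElement_def, MonObj.comp_mul, GrpObj.comp_inv]

variable (G) (T : C) (n : ℕ)

theorem derivedSeries_eq_bot_iff :
    derivedSeries (T ⟶ G) n = ⊥ ↔ ∀ x : T ⟶ dObj G n, x ≫ dWord G n = 1 := by
  have h := (SGA3DerLib.derivedSeries_eq_closure (fun n => Set.range fun x : T ⟶ dObj G n => x ≫ dWord G n)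
    (Set.eq_univ_of_forall fun x => ⟨x, Category.comp_id x⟩) (fun n => by
      ext c
      constructor
      · rintro ⟨x, rfl⟩
        refine ⟨_, ⟨x ≫ fst (dObj G n) (dObj G n), rfl⟩, _, ⟨x ≫ snd (dObj G n) (dObj G n), rfl⟩, ?_⟩
        have e : ∀ y : T ⟶ dObj G n ⊗ dObj G n,
            ⁅(y ≫ fst (dObj G n) (dObj G n)) ≫ dWord G n, (y ≫ snd (dObj G n) (dObj G n)) ≫ dWord G n⁆ =
            y ≫ ⁅fst (dObj G n) (dObj G n) ≫ dWord G n, snd (dObj G n) (dObj G n) ≫ dWord G n⁆ := fun y => by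
          rw [comp_commutator, Category.assoc, Category.assoc]
        exact e x
      · rintro ⟨_, ⟨a, rfl⟩, _, ⟨b, rfl⟩, rfl⟩
        refine ⟨lift a b, ?_⟩
        show lift a b ≫ ⁅fst (dObj G n) (dObj G n) ≫ dWord G n, snd (dObj G n) (dObj G n) ≫ dWord G n⁆ = _
        rw [comp_commutator, lift_fst_assoc, lift_snd_assoc]) n).1
  rw [h, Subgroup.closure_eq_bot_iff]
  simp [Set.subset_def]

theorem lowerCentralSeries_eq_bot_iff :
    Subgroup.lowerCentralSeries (⊤ : Subgroup (T ⟶ G)) n = ⊥ ↔ ∀ x : T ⟶ cObj G n, x ≫ cWord G n = 1 := by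
  have h := (SGA3DerLib.lowerCentralSeries_eq_closure (fun n => Set.range fun x : T ⟶ cObj G n => x ≫ cWord G n)
    (Set.eq_univ_of_forall fun x => ⟨x, Category.comp_id x⟩) (fun n => by
      ext c
      constructor
      · rintro ⟨x, rfl⟩
        refine ⟨_, ⟨x ≫ fst (cObj G n) G, rfl⟩, x ≫ snd (cObj G n) G, Set.mem_univ _, ?_⟩
        have e : ∀ y : T ⟶ cObj G n ⊗ G, ⁅(y ≫ fst (cObj G n) G) ≫ cWord G n, y ≫ snd (cObj G n) G⁆ =
            y ≫ ⁅fst (cObj G n) G ≫ cWord G n, snd (cObj G n) G⁆ := fun y => by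
          rw [comp_commutator, Category.assoc]
        exact e x
      · rintro ⟨_, ⟨a, rfl⟩, b, -, rfl⟩
        refine ⟨lift a b, ?_⟩
        show lift a b ≫ ⁅fst (cObj G n) G ≫ cWord G n, snd (cObj G n) G⁆ = _
        rw [comp_commutator, lift_fst_assoc, lift_snd]) n).1
  rw [h, Subgroup.closure_eq_bot_iff]
  simp [Set.subset_def]

end Groth.Agent.SGA3Bounded26
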