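import Groth.Agent.SGA3Bounded26.Points
import Groth.Agent.SGA3Bounded26.Words
import Groth.Agent.SGA3DerLib.SchemeLaws
import Groth.Agent.SGA3cLib.BCPoints
import Groth.Agent.SGA3xLib.SepFibre
import Groth.Agent.H8Lim.Constructible
import Groth.Agent.EGA43.Limit.Basic
import Groth.Prelude.Def_AGF

/-! The loci where a geometric fibre satisfies a commutator law of given length. -/

set_option autoImplicit false
set_option backward.isDefEq.respectTransparency.types false
set_option linter.style.haveILetI false

universe u

open CategoryTheory Limits MonoidalCategory CartesianMonoidalCategory AlgebraicGeometry MonObj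
open scoped commutatorElement

namespace Groth.Agent.SGA3Bounded26

variable {S : Scheme.{u}} (G : Over S) [GrpObj G]

/-- The test object of the geometric point over `s`. -/
noncomputable abbrev geomObj (s : S) : Over S :=
  (Over.map (Red.geomPt s)).obj (𝟙_ (Over (Spec (CommRingCat.of (AlgebraicClosure (S.residueField s))))))

omit [GrpObj G] in
theorem geomPt_apply (s : S) (z : Spec (CommRingCat.of (AlgebraicClosure (S.residueField s)))) :
    (Red.geomPt s).base z = s := by
  show (S.fromSpecResidueField s).base _ = s
  exact Scheme.fromSpecResidueField_apply _ _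

omit [GrpObj G] in
/-- A point of the base change and the point below it. -/
theorem pt_left_fst {S' : Scheme.{u}} (f : S' ⟶ S) (X' : Over S') (a : (Over.map f).obj X' ⟶ G) :
    (SGA3cLib.BCPoints.pt f G X' a).left ≫ pullback.fst G.hom f = a.left := by
  simp [SGA3cLib.BCPoints.pt, Adjunction.homEquiv_unit]
  erw [pullback.lift_fst, pullback.lift_fst_assoc]
  simp

/-- Geometric points of the group are rational points of the geometric fibre. -/
noncomputable def geomPtsEquiv (s : S) :
    (geomObj s ⟶ G) ≃* (𝟙_ (Over (Spec (CommRingCat.of (AlgebraicClosure (S.residueField s))))) ⟶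
      Red.geomFibre s G) :=
  MulEquiv.mk' (SGA3cLib.BCPoints.pt (Red.geomPt s) G _) (SGA3cLib.BCPoints.pt_mul (Red.geomPt s))

variable {P : Over S} (w : P ⟶ G)

/-- The points over which a word is trivial. -/
def wordLocus : Set S := {s | ∀ p : P.left, P.hom.base p = s → w.left.base p ∈ Set.range η[G].left}

theorem wordLocus_eq : wordLocus G w = (P.hom.base '' (w.left.base ⁻¹' Set.range η[G].left)ᶜ)ᶜ := by
  ext s
  simp only [wordLocus, Set.mem_compl_iff, Set.mem_image, Set.mem_preimage, not_exists, not_and]
  exact ⟨fun h p hp e => hp (h p e), fun h p e => Classical.byContradiction fun hp => h p hp e⟩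

theorem isClosed_wordLocus [IsSeparated G.hom] [Smooth P.hom] : IsClosed (wordLocus G w) := by
  haveI : IsClosedImmersion (η[G].left ≫ G.hom) := by
    rw [Over.w η[G]]; show IsClosedImmersion (𝟙 S); infer_instance
  haveI : IsClosedImmersion η[G].left := IsClosedImmersion.of_comp η[G].left G.hom
  rw [wordLocus_eq, isClosed_compl_iff]
  exact P.hom.isOpenMap _ ((η[G].left.isClosedEmbedding.isClosed_range.preimage w.left.continuous).isOpen_compl)

theorem isLocallyConstructible_compl {X : Type*} [TopologicalSpace X] {t : Set X}
    (h : Topology.IsLocallyConstructible t) : Topology.IsLocallyConstructible tᶜ := fun x => by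
  obtain ⟨U, hU, hU', hc⟩ := h x
  exact ⟨U, hU, hU', hc.compl⟩

theorem isLocallyConstructible_wordLocus [LocallyOfFinitePresentation G.hom] [QuasiSeparated G.hom]
    [LocallyOfFinitePresentation P.hom] [QuasiCompact P.hom] :
    Topology.IsLocallyConstructible (wordLocus G w) := by
  haveI : LocallyOfFinitePresentation (η[G].left ≫ G.hom) := by
    rw [Over.w η[G]]; show LocallyOfFinitePresentation (𝟙 S); infer_instance
  haveI : QuasiCompact (η[G].left ≫ G.hom) := by rw [Over.w η[G]]; show QuasiCompact (𝟙 S); infer_instance
  haveI : LocallyOfFinitePresentation η[G].left := EGA43.Limit.locallyOfFinitePresentation_of_comp _ G.hom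
  haveI : QuasiCompact η[G].left := QuasiCompact.of_comp _ G.hom
  rw [wordLocus_eq]
  refine isLocallyConstructible_compl (P.hom.isLocallyConstructible_image (isLocallyConstructible_compl
    (H8Lim.isLocallyConstructible_preimage w.left ?_)))
  rw [← Set.image_univ]
  exact η[G].left.isLocallyConstructible_image .univ

/-- A word kills all geometric points over `s` iff it sends the fibre into the unit section. -/
theorem forall_pts_iff [LocallyOfFiniteType G.hom] [LocallyOfFiniteType P.hom] (s : S) :
    (∀ x : geomObj s ⟶ P, x ≫ w = 1) ↔ s ∈ wordLocus G w := by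
  let g := Red.geomPt s
  let Ω := AlgebraicClosure (S.residueField s)
  haveI : IsImmersion (η[G].left ≫ G.hom) := by rw [Over.w η[G]]; show IsImmersion (𝟙 S); infer_instance
  haveI : IsImmersion η[G].left := IsImmersion.of_comp _ G.hom
  constructor
  · intro hx p hp
    let m : Red.geomFibre s P ⟶ Red.geomFibre s G := (Over.pullback g).map w
    haveI : LocallyOfFiniteType (Red.geomFibre s P).hom :=
      MorphismProperty.pullback_snd P.hom g inferInstance
    haveI : LocallyOfFiniteType (Red.geomFibre s G).hom :=
      MorphismProperty.pullback_snd G.hom g inferInstance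
    haveI : JacobsonSpace (Red.geomFibre s P).left :=
      LocallyOfFiniteType.jacobsonSpace (Red.geomFibre s P).hom
    obtain ⟨z, hz⟩ : ∃ z : ↥(pullback P.hom g), (pullback.fst P.hom g).base z = p := by
      have h : p ∈ Set.range (pullback.fst P.hom g).base := by
        rw [Scheme.Pullback.range_fst]
        exact ⟨IsLocalRing.closedPoint Ω, (geomPt_apply s _).trans hp.symm⟩
      exact h
    have hall : m.left.base ⁻¹' {pImg (Red.geomFibre s G) 1} = Set.univ := by
      refine Set.eq_univ_of_univ_subset (closure_closedPoints.symm.subset.trans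
        (closure_minimal (fun c hc => ?_) ((isClosed_pImg _ _).preimage m.left.continuous)))
      obtain ⟨x', rfl⟩ := exists_pImg (Red.geomFibre s P) c hc
      obtain ⟨x, rfl⟩ := (SGA3cLib.BCPoints.pt g P _).surjective x'
      have h := SGA3cLib.BCPoints.pt_comp (G := G) g x w
      rw [hx x] at h
      show m.left.base (pImg _ _) = pImg _ _
      rw [← (geomPtsEquiv G s).map_one]
      exact congrArg (fun y => y.left.base (IsLocalRing.closedPoint Ω)) h.symm
    have hz' : m.left.base z = pImg (Red.geomFibre s G) 1 := (hall.symm ▸ Set.mem_univ z :)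
    rw [← hz]
    have e1 : m.left ≫ pullback.fst G.hom g = pullback.fst P.hom g ≫ w.left := by
      simp [m]; exact pullback.lift_fst _ _ _
    refine ⟨((toUnit (geomObj s)).left).base (IsLocalRing.closedPoint Ω), Eq.symm ?_⟩
    calc w.left.base ((pullback.fst P.hom g).base z)
        = (pullback.fst G.hom g).base (m.left.base z) := (congrArg (fun t => t.base z) e1).symm
      _ = (pullback.fst G.hom g).base (pImg (Red.geomFibre s G) (geomPtsEquiv G s 1)) := by
          rw [hz', map_one]
      _ = (1 : geomObj s ⟶ G).left.base (IsLocalRing.closedPoint Ω) := by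
          rw [← pt_left_fst G g _ (1 : geomObj s ⟶ G)]
          rfl
      _ = _ := rfl
  · intro hs x
    obtain ⟨t, ht⟩ := hs (x.left.base (IsLocalRing.closedPoint Ω)) (by
      show (x.left ≫ P.hom).base (IsLocalRing.closedPoint Ω) = s
      rw [Over.w x]
      exact geomPt_apply s _)
    have hy : ∃ y : Spec (CommRingCat.of Ω) ⟶ (𝟙_ (Over S)).left, y ≫ η[G].left = (x ≫ w).left := by
      let q : Spec (CommRingCat.of Ω) ⟶ G.left := (x ≫ w).left
      haveI : Surjective (pullback.snd η[G].left q) := ⟨fun z => by
        have h : z ∈ Set.range (pullback.snd η[G].left q).base := by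
          rw [Scheme.Pullback.range_snd]
          haveI : Subsingleton ↥(geomObj s).left :=
            inferInstanceAs (Subsingleton ↥(Spec (CommRingCat.of Ω)))
          exact ⟨t, ht.trans (congrArg (fun a => w.left.base (x.left.base a)) (Subsingleton.elim _ _))⟩
        exact h⟩
      haveI : IsClosedImmersion (pullback.snd η[G].left q) :=
        IsClosedImmersion.of_isPreimmersion _ (by
          rw [Set.range_eq_univ.2 (pullback.snd η[G].left q).surjective]; exact isClosed_univ)
      haveI : IsIso (pullback.snd η[G].left q) := isIso_of_isClosedImmersion_of_surjective _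
      exact ⟨inv (pullback.snd η[G].left q) ≫ pullback.fst _ _, by
        rw [Category.assoc, pullback.condition, IsIso.inv_hom_id_assoc]⟩
    obtain ⟨y, hy⟩ := hy
    refine Over.OverMorphism.ext ?_
    rw [Hom.one_def, Over.comp_left _ _ _ (toUnit (geomObj s))]
    refine hy.symm.trans (congrArg (· ≫ η[G].left) ?_)
    have := congrArg (· ≫ G.hom) hy
    simp only [Category.assoc, Over.w] at this
    exact (Category.comp_id y).symm.trans (this.trans (Over.w (toUnit (geomObj s))).symm |>.trans (Category.comp_id _))

end Groth.Agent.SGA3Bounded26
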